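import Mathlib

set_option autoImplicit false

/-!
Strongly regular graphs with parameters (100, 22, 0, 6): three pairwise non-adjacent vertices have
exactly two common neighbours.
-/

namespace Cfsg.Agent.Helper9.SRG

open Finset

variable {V : Type*} [Fintype V] [DecidableEq V] (G : SimpleGraph V) [DecidableRel G.Adj]

/-- the hypotheses in terms of neighbour finsets. -/
structure Facts : Prop where
  card : Fintype.card V = 100
  deg : ∀ v, (G.neighborFinset v).card = 22
  adj : ∀ v w, G.Adj v w → G.neighborFinset v ∩ G.neighborFinset w = ∅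
  nadj : ∀ v w, v ≠ w → ¬ G.Adj v w → (G.neighborFinset v ∩ G.neighborFinset w).card = 6

variable {G}

theorem Facts.not_adj_of_common (h : Facts G) {p x y : V} (hpx : G.Adj p x) (hpy : G.Adj p y) :
    ¬ G.Adj x y := by
  intro hxy
  have h1 := h.adj x y hxy
  have h2 : p ∈ G.neighborFinset x ∩ G.neighborFinset y := by
    rw [mem_inter, SimpleGraph.mem_neighborFinset, SimpleGraph.mem_neighborFinset]
    exact ⟨hpx.symm, hpy.symm⟩
  rw [h1] at h2
  exact absurd h2 (notMem_empty _)

/-- the vertices other than `b` and `v0` not adjacent to them. -/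
def far (G : SimpleGraph V) [DecidableRel G.Adj] (v0 b : V) : Finset V :=
  univ.filter (fun x => x ≠ b ∧ x ≠ v0 ∧ ¬ G.Adj v0 x ∧ ¬ G.Adj b x)

theorem card_far (h : Facts G) {v0 b : V} (hb0 : b ≠ v0) (hb : ¬ G.Adj v0 b) :
    (far G v0 b).card = 60 := by
  have hb' : ¬ G.Adj b v0 := fun h' => hb h'.symm
  have hD : far G v0 b = (insert b (insert v0 (G.neighborFinset v0 ∪ G.neighborFinset b)))ᶜ := by
    ext x
    simp only [far, mem_filter, mem_univ, true_and, mem_compl, mem_insert, mem_union,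
      SimpleGraph.mem_neighborFinset, not_or]
  have hU : (G.neighborFinset v0 ∪ G.neighborFinset b).card = 38 := by
    have h1 := card_union_add_card_inter (G.neighborFinset v0) (G.neighborFinset b)
    rw [h.deg, h.deg, h.nadj v0 b (Ne.symm hb0) hb] at h1
    omega
  have h1 : v0 ∉ G.neighborFinset v0 ∪ G.neighborFinset b := by
    simp only [mem_union, SimpleGraph.mem_neighborFinset, not_or]
    exact ⟨G.loopless.irrefl v0, hb'⟩
  have h2 : b ∉ insert v0 (G.neighborFinset v0 ∪ G.neighborFinset b) := by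
    simp only [mem_insert, mem_union, SimpleGraph.mem_neighborFinset, not_or]
    exact ⟨hb0, hb, G.loopless.irrefl b⟩
  rw [hD, card_compl, card_insert_of_notMem h2, card_insert_of_notMem h1, hU, h.card]

/-- the common neighbours of `b` and `v0`. -/
def pts (G : SimpleGraph V) [DecidableRel G.Adj] (v0 b : V) : Finset V :=
  G.neighborFinset b ∩ G.neighborFinset v0

theorem mem_pts {v0 b p : V} : p ∈ pts G v0 b ↔ G.Adj b p ∧ G.Adj v0 p := by
  simp [pts]

theorem filter_far_adj (h : Facts G) {v0 b p : V} (hb0 : b ≠ v0) (hp : p ∈ pts G v0 b) :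
    ((far G v0 b).filter (fun x => G.Adj x p)).card = 20 := by
  obtain ⟨hbp, hvp⟩ := mem_pts.1 hp
  have heq : (far G v0 b).filter (fun x => G.Adj x p) = (G.neighborFinset p \ {b, v0}) := by
    ext x
    simp only [far, mem_filter, mem_univ, true_and, mem_sdiff, SimpleGraph.mem_neighborFinset,
      mem_insert, mem_singleton, not_or]
    constructor
    · rintro ⟨⟨h1, h2, _, _⟩, h5⟩
      exact ⟨h5.symm, h1, h2⟩
    · rintro ⟨h1, h2, h3⟩
      refine ⟨⟨h2, h3, ?_, ?_⟩, h1.symm⟩
      · exact h.not_adj_of_common hvp.symm h1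
      · exact h.not_adj_of_common hbp.symm h1
  rw [heq, card_sdiff_of_subset, h.deg, card_pair hb0]
  intro x hx
  rw [mem_insert, mem_singleton] at hx
  rw [SimpleGraph.mem_neighborFinset]
  rcases hx with rfl | rfl
  · exact hbp.symm
  · exact hvp.symm

theorem filter_far_adj2 (h : Facts G) {v0 b p q : V} (hb0 : b ≠ v0) (hp : p ∈ pts G v0 b)
    (hq : q ∈ pts G v0 b) (hpq : p ≠ q) :
    ((far G v0 b).filter (fun x => G.Adj x p ∧ G.Adj x q)).card = 4 := by
  obtain ⟨hbp, hvp⟩ := mem_pts.1 hp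
  obtain ⟨hbq, hvq⟩ := mem_pts.1 hq
  have hnpq : ¬ G.Adj p q := h.not_adj_of_common hvp hvq
  have heq : (far G v0 b).filter (fun x => G.Adj x p ∧ G.Adj x q) =
      ((G.neighborFinset p ∩ G.neighborFinset q) \ {b, v0}) := by
    ext x
    simp only [far, mem_filter, mem_univ, true_and, mem_sdiff, mem_inter,
      SimpleGraph.mem_neighborFinset, mem_insert, mem_singleton, not_or]
    constructor
    · rintro ⟨⟨h1, h2, _, _⟩, h5, h6⟩
      exact ⟨⟨h5.symm, h6.symm⟩, h1, h2⟩
    · rintro ⟨⟨h1, h1'⟩, h2, h3⟩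
      refine ⟨⟨h2, h3, ?_, ?_⟩, h1.symm, h1'.symm⟩
      · exact h.not_adj_of_common hvp.symm h1
      · exact h.not_adj_of_common hbp.symm h1
  rw [heq, card_sdiff_of_subset, h.nadj p q hpq hnpq, card_pair hb0]
  intro x hx
  rw [mem_insert, mem_singleton] at hx
  rw [mem_inter, SimpleGraph.mem_neighborFinset, SimpleGraph.mem_neighborFinset]
  rcases hx with rfl | rfl
  · exact ⟨hbp.symm, hbq.symm⟩
  · exact ⟨hvp.symm, hvq.symm⟩

theorem card_pts (h : Facts G) {v0 b : V} (hb0 : b ≠ v0) (hb : ¬ G.Adj v0 b) :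
    (pts G v0 b).card = 6 :=
  h.nadj b v0 hb0 (fun h' => hb h'.symm)

/-- first moment. -/
theorem sum_one (h : Facts G) {v0 b : V} (hb0 : b ≠ v0) (hb : ¬ G.Adj v0 b) :
    ∑ x ∈ far G v0 b, ((pts G v0 b).filter (fun p => G.Adj x p)).card = 120 := by
  have := sum_card_bipartiteAbove_eq_sum_card_bipartiteBelow (s := far G v0 b)
    (t := pts G v0 b) (fun x p => G.Adj x p)
  unfold bipartiteAbove bipartiteBelow at this
  rw [this, sum_congr rfl (fun p hp => filter_far_adj h hb0 hp), sum_const, card_pts h hb0 hb]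
  rfl

/-- second moment. -/
theorem sum_two (h : Facts G) {v0 b : V} (hb0 : b ≠ v0) (hb : ¬ G.Adj v0 b) :
    ∑ x ∈ far G v0 b, (((pts G v0 b).filter (fun p => G.Adj x p)).offDiag).card = 120 := by
  have h1 : ∀ x, ((pts G v0 b).filter (fun p => G.Adj x p)).offDiag =
      (pts G v0 b).offDiag.filter (fun pq => G.Adj x pq.1 ∧ G.Adj x pq.2) := by
    intro x
    ext ⟨p, q⟩
    simp only [mem_offDiag, mem_filter]
    tauto
  simp_rw [h1]
  have := sum_card_bipartiteAbove_eq_sum_card_bipartiteBelow (s := far G v0 b)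
    (t := (pts G v0 b).offDiag) (fun x pq => G.Adj x pq.1 ∧ G.Adj x pq.2)
  unfold bipartiteAbove bipartiteBelow at this
  rw [this]
  have h2 : ∀ pq ∈ (pts G v0 b).offDiag,
      ((far G v0 b).filter (fun x => G.Adj x pq.1 ∧ G.Adj x pq.2)).card = 4 := by
    rintro ⟨p, q⟩ hpq
    rw [mem_offDiag] at hpq
    exact filter_far_adj2 h hb0 hpq.1 hpq.2.1 hpq.2.2
  rw [sum_congr rfl h2, sum_const, offDiag_card, card_pts h hb0 hb]
  rfl

/-- three pairwise non-adjacent vertices have exactly two common neighbours. -/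
theorem two_common (h : Facts G) {v0 b c : V} (hb0 : b ≠ v0) (hc0 : c ≠ v0) (hcb : c ≠ b)
    (hb : ¬ G.Adj v0 b) (hc : ¬ G.Adj v0 c) (hbc : ¬ G.Adj b c) :
    ((pts G v0 b).filter (fun p => G.Adj c p)).card = 2 := by
  have hcfar : c ∈ far G v0 b := by
    simp only [far, mem_filter, mem_univ, true_and]
    exact ⟨hcb, hc0, hc, hbc⟩
  set i : V → ℕ := fun x => ((pts G v0 b).filter (fun p => G.Adj x p)).card with hi
  have hS0 := card_far h hb0 hb
  have hS1 : ∑ x ∈ far G v0 b, i x = 120 := sum_one h hb0 hb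
  have hS2 : ∑ x ∈ far G v0 b, (i x * i x - i x) = 120 := by
    have := sum_two h hb0 hb
    simp_rw [offDiag_card] at this
    exact this
  have hsq : ∑ x ∈ far G v0 b, ((i x : ℤ) - 2) ^ 2 = 0 := by
    have e : ∀ x, ((i x : ℤ) - 2) ^ 2 = ((i x * i x - i x : ℕ) : ℤ) - 3 * (i x : ℤ) + 4 := by
      intro x
      have hle : i x ≤ i x * i x := Nat.le_mul_self _
      rw [Nat.cast_sub hle]
      push_cast
      ring
    simp_rw [e]
    rw [sum_add_distrib, sum_sub_distrib, ← Nat.cast_sum, hS2, ← mul_sum, ← Nat.cast_sum, hS1,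
      sum_const, hS0]
    norm_num
  have hz := (sum_eq_zero_iff_of_nonneg (fun x _ => sq_nonneg ((i x : ℤ) - 2))).1 hsq c hcfar
  have : (i c : ℤ) = 2 := by
    have := pow_eq_zero_iff (two_ne_zero) |>.1 hz
    linarith
  exact_mod_cast this

end Cfsg.Agent.Helper9.SRG
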