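import Mathlib
import Cfsg.Prelude.Def_Sporadic_a
import Cfsg.Agent.Helper9.SRG.Count

set_option autoImplicit false

/-!
The Steiner system S(3, 6, 22) of a strongly regular graph with parameters (100, 22, 0, 6) at a
vertex: the points are the neighbours of the vertex and the blocks are the sets of neighbours of
the other vertices among them.
-/

namespace Cfsg.Agent.Helper9.SRG

open Finset Cfsg

variable {V : Type*} [Fintype V] [DecidableEq V] {G : SimpleGraph V} [DecidableRel G.Adj]

/-- the points of the block of a vertex, among the neighbours of `v0`. -/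
def bp (G : SimpleGraph V) [DecidableRel G.Adj] (v0 c : V) : Finset {p : V // G.Adj v0 p} :=
  (G.neighborFinset c).subtype (fun p => G.Adj v0 p)

theorem mem_bp {v0 c : V} (p : {p : V // G.Adj v0 p}) : p ∈ bp G v0 c ↔ G.Adj c p.1 := by
  simp [bp]

theorem card_bp_inter (v0 c c' : V) :
    (bp G v0 c ∩ bp G v0 c').card = ((pts G v0 c).filter (fun p => G.Adj c' p)).card := by
  have h1 : bp G v0 c ∩ bp G v0 c' =
      ((pts G v0 c).filter (fun p => G.Adj c' p)).subtype (fun p => G.Adj v0 p) := by
    ext p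
    simp only [mem_inter, mem_bp, mem_subtype, mem_filter, mem_pts]
    constructor
    · rintro ⟨h1, h2⟩
      exact ⟨⟨h1, p.2⟩, h2⟩
    · rintro ⟨⟨h1, _⟩, h2⟩
      exact ⟨h1, h2⟩
  rw [h1, card_subtype]
  congr 1
  ext p
  simp only [mem_filter, mem_pts]
  tauto

theorem card_bp (h : Facts G) {v0 c : V} (hc0 : c ≠ v0) (hc : ¬ G.Adj v0 c) :
    (bp G v0 c).card = 6 := by
  unfold bp
  rw [card_subtype]
  have : (G.neighborFinset c).filter (fun p => G.Adj v0 p) = pts G v0 c := by
    ext p
    simp [mem_pts]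
  rw [this, card_pts h hc0 hc]

theorem card_bp_inter_le (h : Facts G) {v0 c c' : V} (hc0 : c ≠ v0) (hc'0 : c' ≠ v0)
    (hcc' : c' ≠ c) (hc : ¬ G.Adj v0 c) (hc' : ¬ G.Adj v0 c') :
    (bp G v0 c ∩ bp G v0 c').card ≤ 2 := by
  rw [card_bp_inter]
  by_cases hadj : G.Adj c c'
  · have : (pts G v0 c).filter (fun p => G.Adj c' p) = ∅ := by
      ext p
      simp only [mem_filter, mem_pts, notMem_empty, iff_false, not_and]
      rintro ⟨h1, _⟩ h2
      exact h.not_adj_of_common h1.symm h2.symm hadj
    rw [this, card_empty]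
    norm_num
  · exact (two_common h hc0 hc'0 hcc' hc hc' hadj).le

theorem card_bp_inter_of_not_adj (h : Facts G) {v0 c c' : V} (hc0 : c ≠ v0) (hc'0 : c' ≠ v0)
    (hcc' : c' ≠ c) (hc : ¬ G.Adj v0 c) (hc' : ¬ G.Adj v0 c') (hadj : ¬ G.Adj c c') :
    (bp G v0 c ∩ bp G v0 c').card = 2 := by
  rw [card_bp_inter]
  exact two_common h hc0 hc'0 hcc' hc hc' hadj

theorem bp_injective (h : Facts G) {v0 c c' : V} (hc0 : c ≠ v0) (hc'0 : c' ≠ v0)
    (hc : ¬ G.Adj v0 c) (hc' : ¬ G.Adj v0 c') (heq : bp G v0 c = bp G v0 c') : c = c' := by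
  by_contra hne
  have h1 := card_bp_inter_le h hc0 hc'0 (Ne.symm hne) hc hc'
  rw [← heq, inter_self, card_bp h hc0 hc] at h1
  omega

/-- the blocks. -/
def blockSet (G : SimpleGraph V) [DecidableRel G.Adj] (v0 : V) :
    Set (Finset {p : V // G.Adj v0 p}) :=
  {s | ∃ c, c ≠ v0 ∧ ¬ G.Adj v0 c ∧ bp G v0 c = s}

/-- the vertices which are blocks. -/
def blockVerts (G : SimpleGraph V) [DecidableRel G.Adj] (v0 : V) : Finset V :=
  univ.filter (fun c => c ≠ v0 ∧ ¬ G.Adj v0 c)

theorem card_blockVerts (h : Facts G) (v0 : V) : (blockVerts G v0).card = 77 := by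
  have hD : blockVerts G v0 = (insert v0 (G.neighborFinset v0))ᶜ := by
    ext x
    simp [blockVerts]
  have h1 : v0 ∉ G.neighborFinset v0 := by simp
  rw [hD, card_compl, card_insert_of_notMem h1, h.deg, h.card]

theorem card_points (h : Facts G) (v0 : V) : Fintype.card {p : V // G.Adj v0 p} = 22 := by
  rw [Fintype.card_subtype]
  have : univ.filter (fun p => G.Adj v0 p) = G.neighborFinset v0 := by
    ext p
    simp
  rw [this, h.deg]

theorem steiner (h : Facts G) (v0 : V) : IsSteinerSystem 3 6 (blockSet G v0) := by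
  refine ⟨?_, ?_⟩
  · rintro s ⟨c, hc0, hc, rfl⟩
    exact card_bp h hc0 hc
  · intro s hs
    -- every 3-set lies in a block, by counting
    have hdisj : ((blockVerts G v0 : Finset V) : Set V).PairwiseDisjoint
        (fun c => (bp G v0 c).powersetCard 3) := by
      intro c hc c' hc' hne
      rw [Function.onFun, disjoint_left]
      intro t ht ht'
      rw [mem_powersetCard] at ht ht'
      simp only [blockVerts, coe_filter, mem_univ, true_and, Set.mem_setOf_eq] at hc hc'
      have h1 := card_bp_inter_le h hc.1 hc'.1 (Ne.symm hne) hc.2 hc'.2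
      have h2 : t.card ≤ (bp G v0 c ∩ bp G v0 c').card :=
        card_le_card (subset_inter ht.1 ht'.1)
      omega
    have hcardU : ((blockVerts G v0).biUnion (fun c => (bp G v0 c).powersetCard 3)).card =
        1540 := by
      rw [card_biUnion hdisj]
      have : ∀ c ∈ blockVerts G v0, ((bp G v0 c).powersetCard 3).card = 20 := by
        intro c hc
        simp only [blockVerts, mem_filter, mem_univ, true_and] at hc
        rw [card_powersetCard, card_bp h hc.1 hc.2]
        decide
      rw [sum_congr rfl this, sum_const, card_blockVerts h v0]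
      rfl
    have hsub : (blockVerts G v0).biUnion (fun c => (bp G v0 c).powersetCard 3) ⊆
        (univ : Finset {p : V // G.Adj v0 p}).powersetCard 3 := by
      intro t ht
      rw [mem_biUnion] at ht
      obtain ⟨c, _, htc⟩ := ht
      rw [mem_powersetCard] at htc ⊢
      exact ⟨subset_univ _, htc.2⟩
    have hcardT : ((univ : Finset {p : V // G.Adj v0 p}).powersetCard 3).card = 1540 := by
      rw [card_powersetCard, card_univ, card_points h v0]
      decide
    have heq := eq_of_subset_of_card_le hsub (by rw [hcardT, hcardU])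
    have hsU : s ∈ (blockVerts G v0).biUnion (fun c => (bp G v0 c).powersetCard 3) := by
      rw [heq, mem_powersetCard]
      exact ⟨subset_univ _, hs⟩
    rw [mem_biUnion] at hsU
    obtain ⟨c, hc, hsc⟩ := hsU
    simp only [blockVerts, mem_filter, mem_univ, true_and] at hc
    rw [mem_powersetCard] at hsc
    refine ⟨bp G v0 c, ⟨⟨c, hc.1, hc.2, rfl⟩, hsc.1⟩, ?_⟩
    rintro blk ⟨⟨c', hc'0, hc', rfl⟩, hsc'⟩
    by_contra hne
    have hcc' : c' ≠ c := fun e => hne (by rw [e])
    have h1 := card_bp_inter_le h hc.1 hc'0 hcc' hc.2 hc'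
    have h2 : s.card ≤ (bp G v0 c ∩ bp G v0 c').card := card_le_card (subset_inter hsc.1 hsc')
    omega

end Cfsg.Agent.Helper9.SRG
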