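import Mathlib
import Cfsg.Prelude.Def_Sporadic_a
import Cfsg.Agent.Helper9.SRG.Design
import Cfsg.Agent.Helper9.HSG.Basic

set_option autoImplicit false

/-!
A strongly regular graph with parameters (100, 22, 0, 6) is isomorphic to the point-block graph of
its Steiner system at a vertex.
-/

namespace Cfsg.Agent.Helper9.SRG

open Finset Cfsg Cfsg.Agent.Helper9.HSG

variable {V : Type*} [Fintype V] [DecidableEq V] {G : SimpleGraph V} [DecidableRel G.Adj]

/-- the vertex of the point-block graph corresponding to a vertex. -/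
def toPB (G : SimpleGraph V) [DecidableRel G.Adj] (v0 x : V) :
    Option ({p : V // G.Adj v0 p} ⊕ ↥(blockSet G v0)) :=
  if h0 : x = v0 then none
  else if h : G.Adj v0 x then some (Sum.inl ⟨x, h⟩)
  else some (Sum.inr ⟨bp G v0 x, ⟨x, h0, h, rfl⟩⟩)

theorem toPB_v0 (v0 : V) : toPB G v0 v0 = none := by
  unfold toPB
  rw [dif_pos rfl]

theorem toPB_pt {v0 x : V} (h : G.Adj v0 x) : toPB G v0 x = some (Sum.inl ⟨x, h⟩) := by
  unfold toPB
  rw [dif_neg (fun e => by rw [e] at h; exact G.loopless.irrefl v0 h), dif_pos h]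

theorem toPB_blk {v0 x : V} (h0 : x ≠ v0) (h : ¬ G.Adj v0 x) :
    toPB G v0 x = some (Sum.inr ⟨bp G v0 x, ⟨x, h0, h, rfl⟩⟩) := by
  unfold toPB
  rw [dif_neg h0, dif_neg h]

theorem vertex_cases (v0 x : V) : v0 = x ∨ G.Adj v0 x ∨ (x ≠ v0 ∧ ¬ G.Adj v0 x) := by
  by_cases h0 : x = v0
  · exact Or.inl h0.symm
  · by_cases h : G.Adj v0 x
    · exact Or.inr (Or.inl h)
    · exact Or.inr (Or.inr ⟨h0, h⟩)

theorem toPB_bijective (h : Facts G) (v0 : V) : Function.Bijective (toPB G v0) := by
  constructor
  · intro x y hxy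
    rcases vertex_cases (G := G) v0 x with rfl | hx | ⟨hx0, hx⟩ <;>
      rcases vertex_cases (G := G) v0 y with rfl | hy | ⟨hy0, hy⟩
    · rfl
    · rw [toPB_v0, toPB_pt hy] at hxy
      exact absurd hxy (by simp)
    · rw [toPB_v0, toPB_blk hy0 hy] at hxy
      exact absurd hxy (by simp)
    · rw [toPB_v0, toPB_pt hx] at hxy
      exact absurd hxy (by simp)
    · rw [toPB_pt hx, toPB_pt hy] at hxy
      have := Sum.inl_injective (Option.some_injective _ hxy)
      exact congrArg Subtype.val this
    · rw [toPB_pt hx, toPB_blk hy0 hy] at hxy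
      exact absurd hxy (by simp)
    · rw [toPB_v0, toPB_blk hx0 hx] at hxy
      exact absurd hxy (by simp)
    · rw [toPB_blk hx0 hx, toPB_pt hy] at hxy
      exact absurd hxy (by simp)
    · rw [toPB_blk hx0 hx, toPB_blk hy0 hy] at hxy
      have h1 := Sum.inr_injective (Option.some_injective _ hxy)
      have h2 : bp G v0 x = bp G v0 y := congrArg Subtype.val h1
      exact bp_injective h hx0 hy0 hx hy h2
  · intro w
    rcases w with _ | (p | ⟨s, c, hc0, hc, rfl⟩)
    · exact ⟨v0, toPB_v0 v0⟩
    · exact ⟨p.1, toPB_pt p.2⟩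
    · exact ⟨c, toPB_blk hc0 hc⟩

theorem adj_toPB (h : Facts G) (v0 x y : V) :
    (pointBlockGraph (blockSet G v0)).Adj (toPB G v0 x) (toPB G v0 y) ↔ G.Adj x y := by
  rcases vertex_cases (G := G) v0 x with rfl | hx | ⟨hx0, hx⟩ <;>
    rcases vertex_cases (G := G) v0 y with rfl | hy | ⟨hy0, hy⟩
  · rw [toPB_v0]
    constructor
    · intro h'
      exact absurd h' (SimpleGraph.irrefl _)
    · intro h'
      exact absurd h' (G.loopless.irrefl _)
  · rw [toPB_v0, toPB_pt hy]
    exact ⟨fun _ => hy, fun _ => adj_none_inl _ _⟩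
  · rw [toPB_v0, toPB_blk hy0 hy, adj_none_iff]
    constructor
    · rintro ⟨a, ha⟩
      simp at ha
    · intro h'
      exact absurd h' hy
  · rw [toPB_v0, toPB_pt hx]
    exact ⟨fun _ => hx.symm, fun _ => (adj_none_inl _ _).symm⟩
  · rw [toPB_pt hx, toPB_pt hy]
    constructor
    · intro h'
      exact absurd h' (not_adj_inl_inl _ _ _)
    · intro h'
      exact absurd h' (h.not_adj_of_common hx hy)
  · rw [toPB_pt hx, toPB_blk hy0 hy, adj_inl_inr]
    simp only
    rw [mem_bp]
    exact ⟨fun h' => h'.symm, fun h' => h'.symm⟩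
  · rw [toPB_v0, toPB_blk hx0 hx, SimpleGraph.adj_comm, adj_none_iff]
    constructor
    · rintro ⟨a, ha⟩
      simp at ha
    · intro h'
      exact absurd h'.symm hx
  · rw [toPB_blk hx0 hx, toPB_pt hy, SimpleGraph.adj_comm, adj_inl_inr]
    simp only
    rw [mem_bp]
  · rw [toPB_blk hx0 hx, toPB_blk hy0 hy, adj_inr_inr]
    simp only
    constructor
    · rintro ⟨hne, hdis⟩
      by_contra hnadj
      have hyx : y ≠ x := by
        rintro rfl
        exact hne rfl
      have h2 := card_bp_inter_of_not_adj h hx0 hy0 hyx hx hy hnadj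
      rw [disjoint_iff_inter_eq_empty] at hdis
      rw [hdis, card_empty] at h2
      omega
    · intro hadj
      refine ⟨?_, ?_⟩
      · intro he
        have h1 : bp G v0 x = bp G v0 y := congrArg Subtype.val he
        have := bp_injective h hx0 hy0 hx hy h1
        rw [this] at hadj
        exact G.loopless.irrefl _ hadj
      · rw [disjoint_left]
        intro p hp hp'
        rw [mem_bp] at hp hp'
        exact h.not_adj_of_common hp.symm hp'.symm hadj

/-- the isomorphism with the point-block graph. -/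
noncomputable def isoPB (h : Facts G) (v0 : V) : G ≃g pointBlockGraph (blockSet G v0) where
  toEquiv := Equiv.ofBijective (toPB G v0) (toPB_bijective h v0)
  map_rel_iff' := adj_toPB h v0 _ _

end Cfsg.Agent.Helper9.SRG
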