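import Mathlib
import Cfsg.Prelude.Def_Sporadic_a
import Cfsg.Agent.Helper9.SRG.Iso
import Cfsg.Agent.Helper9.HSG.Congr
import Cfsg.Agent.Helper9.Steiner.Search
import Cfsg.Agent.Helper9.Steiner.D3622M

set_option autoImplicit false

/-!
Uniqueness of the strongly regular graph with parameters (100, 22, 0, 6).
-/

namespace Cfsg.Agent.Helper9.SRG

open Finset Cfsg Cfsg.Agent.Helper9.HSG Cfsg.Agent.Helper9.Steiner

theorem card_commonNeighbors_eq {V : Type*} [Fintype V] [DecidableEq V] (G : SimpleGraph V)
    [DecidableRel G.Adj] (v w : V) :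
    Fintype.card (G.commonNeighbors v w) = (G.neighborFinset v ∩ G.neighborFinset w).card := by
  rw [← Set.toFinset_card]
  congr 1
  ext x
  simp [SimpleGraph.mem_commonNeighbors]

theorem facts_of_srg {V : Type*} [Fintype V] [DecidableEq V] {G : SimpleGraph V}
    [DecidableRel G.Adj] (h : G.IsSRGWith 100 22 0 6) : Facts G where
  card := h.card
  deg := fun v => h.regular.degree_eq v
  adj := fun v w hvw => by
    have := h.of_adj v w hvw
    rw [card_commonNeighbors_eq] at this
    exact card_eq_zero.1 this
  nadj := fun v w hne hvw => by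
    have := h.of_not_adj hne hvw
    rw [card_commonNeighbors_eq] at this
    exact this

/-- every srg(100,22,0,6) is isomorphic to the point-block graph of the standard S(3,6,22). -/
theorem iso_std {V : Type*} [Fintype V] {G : SimpleGraph V} [DecidableRel G.Adj]
    (h : G.IsSRGWith 100 22 0 6) :
    Nonempty (G ≃g pointBlockGraph (stdSet D3622M.P)) := by
  classical
  have hF := facts_of_srg h
  have hne : Nonempty V := by
    rw [← Fintype.card_pos_iff, h.card]
    norm_num
  obtain ⟨v0⟩ := hne
  obtain ⟨e, he⟩ := iso_std_of_checked D3622M.checked (card_points hF v0) (steiner hF v0)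
  have i1 := isoPB hF v0
  have i2 := pbgCongr e (blockSet G v0)
  rw [he] at i2
  exact ⟨i1.trans i2⟩

end Cfsg.Agent.Helper9.SRG
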